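import Mathlib

/-! Automorphisms of order 3 of an elementary abelian group of order 64. -/

set_option autoImplicit false

namespace CL.A6F.Nt

open Subgroup

variable {A : Type*} [CommGroup A]

/-- fixed points -/
def Fx (h : MulAut A) : Subgroup A := h.toMonoidHom.eqLocus (MonoidHom.id A)

theorem mem_Fx {h : MulAut A} {a : A} : a ∈ Fx h ↔ h a = a := Iff.rfl

/-- the projection `D + D²` -/
def pr (D : MulAut A) : A →* A := D.toMonoidHom * (D * D).toMonoidHom

theorem pr_apply (D : MulAut A) (a : A) : pr D a = D a * D (D a) := rfl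

theorem three [Finite A] {W V : Subgroup A} (h : W ≤ V) (h4 : Nat.card V = 4) {x y : A} (hx : x ∈ W)
    (hy : y ∈ W) (x1 : x ≠ 1) (y1 : y ≠ 1) (xy : x ≠ y) : V ≤ W := by
  have h3 : 3 ≤ Nat.card W := by
    haveI := Fintype.ofFinite W
    rw [Nat.card_eq_fintype_card]
    exact Fintype.two_lt_card_iff.2 ⟨1, ⟨x, hx⟩, ⟨y, hy⟩, fun e => x1 (congrArg Subtype.val e).symm,
      fun e => y1 (congrArg Subtype.val e).symm, fun e => xy (congrArg Subtype.val e)⟩
  have h1 := card_dvd_of_le h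
  rw [h4] at h1
  have h2 := Nat.le_of_dvd (by norm_num) h1
  refine (eq_of_le_of_card_ge h ?_).ge
  rw [h4]
  interval_cases Nat.card W <;> omega

/-- the data of an automorphism of order 3 with 16 fixed points -/
structure Dt (D : MulAut A) : Prop where
  sq : ∀ a : A, a * a = 1
  c64 : Nat.card A = 64
  cb : ∀ a, D (D (D a)) = a
  c16 : Nat.card (Fx D) = 16

variable {D : MulAut A} (h : Dt D)
include h

theorem Dt.eq_of {a b : A} (e : a * b = 1) : a = b := by
  rw [← mul_one a, ← h.sq b, ← mul_assoc, e, one_mul]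

theorem Dt.ker : (pr D).ker = Fx D := by
  ext a
  rw [MonoidHom.mem_ker, pr_apply, mem_Fx]
  exact ⟨fun e => (D.injective (h.eq_of e)).symm, fun e => by rw [e, e, h.sq]⟩

theorem Dt.card : Nat.card (pr D).range = 4 := by
  have := (pr D).ker.card_mul_index
  rw [index_ker, h.ker, h.c16, h.c64] at this
  omega

theorem Dt.pr_pr (a : A) : pr D (pr D a) = pr D a := by
  simp only [pr_apply, map_mul, h.cb]
  calc _ = D a * D (D a) * (a * a) := by simp only [mul_comm, mul_left_comm, mul_assoc]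
    _ = _ := by rw [h.sq, mul_one]

theorem Dt.pr_eq {v : A} (hv : v ∈ (pr D).range) : pr D v = v := by
  obtain ⟨a, rfl⟩ := hv
  exact h.pr_pr a

theorem Dt.eq_one {v : A} (hv : v ∈ (pr D).range) (e : D v = v) : v = 1 := by
  rw [← h.pr_eq hv, ← MonoidHom.mem_ker, h.ker]
  exact e

theorem Dt.dec (a : A) : a * pr D a ∈ Fx D := by
  rw [← h.ker, MonoidHom.mem_ker, map_mul, h.pr_pr, h.sq]

omit h in
theorem mem_of {g : MulAut A} (hg : ∀ a, g (pr D a) = pr D (g a)) {v : A} (hv : v ∈ (pr D).range) :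
    g v ∈ (pr D).range := by
  obtain ⟨a, rfl⟩ := hv
  exact ⟨g a, (hg a).symm⟩

variable [Finite A]

theorem Dt.fix {g : MulAut A} (g2 : ∀ a, g (g a) = a) (hg : ∀ a, g (D a) = D (g a)) :
    (pr D).range ≤ Fx g := by
  have hg' : ∀ a, g (pr D a) = pr D (g a) := fun a => by simp only [pr_apply, map_mul, hg]
  obtain ⟨w, hw, w1⟩ : ∃ w ∈ (pr D).range ⊓ Fx g, w ≠ 1 := by
    have : (pr D).range ≠ ⊥ := fun e => by have := h.card; rw [e, card_bot] at this; omega
    obtain ⟨⟨v, hv⟩, v1⟩ := ne_bot_iff_exists_ne_one.1 this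
    by_cases e : g v = v
    · exact ⟨v, ⟨hv, e⟩, fun e => v1 (Subtype.ext e)⟩
    · exact ⟨v * g v, ⟨mul_mem hv (mem_of hg' hv), mem_Fx.2 (by rw [map_mul, g2, mul_comm])⟩,
        fun e' => e (h.eq_of e').symm⟩
  refine (three inf_le_left h.card hw (y := D w) ⟨mem_of (fun a => ?_) hw.1, ?_⟩ w1
    (fun e => w1 (D.injective (e.trans (map_one D).symm))) fun e => w1 (h.eq_one hw.1 e.symm)).trans
    inf_le_right
  · simp only [pr_apply, map_mul]
  · exact (hg w).trans (congrArg D hw.2)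

theorem Dt.tv {D1 D2 X : MulAut A} (h1 : Dt D1) (h2 : Dt D2) (X2 : ∀ a, X (X a) = a)
    (hX : ∀ a, X (pr D a) = pr D (X a)) (a1 : (pr D1).range ≤ Fx D) (a2 : (pr D2).range ≤ Fx D)
    (a3 : (pr D2).range ≤ Fx D1) (b1 : (pr D1).range ≤ Fx X) (b2 : (pr D2).range ≤ Fx X) :
    ∃ c, ∀ a, X a = a ∨ X a = a * c := by
  have F : Fx D ≤ Fx X := by
    let f : (pr D1).range × (pr D2).range → Fx D := fun p => ⟨p.1 * p.2, mul_mem (a1 p.1.2) (a2 p.2.2)⟩
    have fi : Function.Injective f := fun p q e => by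
      have e1 : (p.1 : A) * p.2 = q.1 * q.2 := congrArg Subtype.val e
      have e2 := congrArg (pr D1) e1
      rw [map_mul, map_mul, h1.pr_eq p.1.2, h1.pr_eq q.1.2, (h1.ker.ge (a3 p.2.2) : pr D1 _ = 1),
        (h1.ker.ge (a3 q.2.2) : pr D1 _ = 1), mul_one, mul_one] at e2
      rw [e2] at e1
      exact Prod.ext (Subtype.ext e2) (Subtype.ext (mul_left_cancel e1))
    have fb := fi.bijective_of_nat_card_le (by rw [Nat.card_prod, h1.card, h2.card, h.c16])
    intro a ha
    obtain ⟨p, e⟩ := fb.2 ⟨a, ha⟩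
    rw [show a = p.1 * p.2 from (congrArg Subtype.val e).symm]
    exact mul_mem (b1 p.1.2) (b2 p.2.2)
  have hdec : ∀ a, a = a * pr D a * pr D a := fun a => by rw [mul_assoc, h.sq, mul_one]
  have W : ∀ a, a * X a ∈ (pr D).range ⊓ Fx X := fun a => ⟨by
      have : a * X a = pr D a * X (pr D a) := by
        have e : X a = a * pr D a * X (pr D a) := by
          conv_lhs => rw [hdec a, map_mul, mem_Fx.1 (F (h.dec a))]
        rw [e, ← mul_assoc, ← mul_assoc, h.sq, one_mul]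
      rw [this]
      exact mul_mem ⟨a, rfl⟩ (mem_of hX ⟨a, rfl⟩),
    mem_Fx.2 (by rw [map_mul, X2, mul_comm])⟩
  by_cases e : ∀ a, X a = a
  · exact ⟨1, fun a => .inl (e a)⟩
  obtain ⟨b, hb⟩ := not_forall.1 e
  refine ⟨b * X b, fun a => ?_⟩
  by_contra hn
  rw [not_or] at hn
  have := three inf_le_left h.card (W a) (W b) (fun e => hn.1 (h.eq_of e).symm)
    (fun e => hb (h.eq_of e).symm) fun e => hn.2 (by rw [← e, ← mul_assoc, h.sq, one_mul])
  exact hb (by rw [hdec b, map_mul, mem_Fx.1 (F (h.dec b)), mem_Fx.1 (this ⟨b, rfl⟩).2])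

end CL.A6F.Nt
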