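import Cfsg.Agent.INV.YK.E7
import Cfsg.Agent.SPOR.W6.Cls
import Cfsg.Agent.SPOR.A6F.Nat0

/-! A faithful action of `Sp₆(2)` on an elementary abelian group of order 64 is the natural one. -/

set_option autoImplicit false

namespace CL.A6F

open Matrix CL.YK.E7

namespace Nt

/-- the natural module -/
abbrev VV := Fin 3 ⊕ Fin 3 → ZMod 2

/-- the group -/
abbrev SS := symplecticGroup (Fin 3) (ZMod 2)

/-- the form -/
def BB (u v : VV) : ZMod 2 := ∑ i, (u (.inr i) * v (.inl i) + u (.inl i) * v (.inr i))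

theorem z01 : ∀ x : ZMod 2, x = 0 ∨ x = 1 := by decide

theorem tv_mv (u v : VV) : (tv u).1 *ᵥ v = v + BB u v • u := by
  change Cfsg.sympTransvection 3 u 1 *ᵥ v = _
  rw [CL.Sp.sympTransvection_mulVec, CL.Witt.Form.tv_apply, CL.Sp.spForm_B_eq]
  simp only [CharTwo.sub_eq_add, CharTwo.neg_eq, one_mul, BB]

theorem BB_self (u : VV) : BB u u = 0 :=
  Finset.sum_eq_zero fun i _ => by rw [mul_comm, CharTwo.add_self_eq_zero]

theorem BB_comm (u v : VV) : BB u v = BB v u :=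
  Finset.sum_congr rfl fun i _ => by ring

theorem BB_add (u v w : VV) : BB u (v + w) = BB u v + BB u w := by
  simp only [BB, ← Finset.sum_add_distrib, Pi.add_apply]
  exact Finset.sum_congr rfl fun i _ => by ring

theorem BB_smul (u v : VV) (c : ZMod 2) : BB u (c • v) = c * BB u v := by
  simp only [BB, Finset.mul_sum, Pi.smul_apply, smul_eq_mul]
  exact Finset.sum_congr rfl fun i _ => by ring

theorem BB_sum (u v : VV) : BB u v = ∑ i, BB u (Pi.single i 1) * v i := by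
  simp [BB, Fintype.sum_sum_type, Pi.single_apply, Fin.sum_univ_three]
  ring

theorem BB_nd : ∀ v : VV, (∀ i, BB (Pi.single i 1) v = 0) → v = 0 := by decide +kernel

theorem vv2 (v : VV) : v + v = 0 := funext fun i => CharTwo.add_self_eq_zero (v i)

theorem mul_mv (g h : SS) (v : VV) : (g * h).1 *ᵥ v = g.1 *ᵥ (h.1 *ᵥ v) := (mulVec_mulVec _ _ _).symm

theorem tv_sq (u : VV) : tv u * tv u = 1 := Subtype.ext (Matrix.ext_iff_mulVec.2 fun v => by
  rw [mul_mv, tv_mv, tv_mv, BB_add, BB_smul, BB_self, mul_zero, add_zero, add_assoc, vv2, add_zero]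
  exact (one_mulVec v).symm)

theorem tv_inv (u : VV) : (tv u)⁻¹ = tv u := inv_eq_of_mul_eq_one_right (tv_sq u)

theorem tv_conj (u w : VV) : tv u * tv w * (tv u)⁻¹ = tv (w + BB u w • u) := by rw [conj, tv_mv]

theorem tv_comm {u w : VV} (h : BB u w = 0) : Commute (tv u) (tv w) := by
  have := tv_conj u w
  rw [h, zero_smul, add_zero] at this
  exact mul_inv_eq_iff_eq_mul.1 this

theorem tv_cube {u w : VV} (h : BB u w = 1) : (tv u * tv w) ^ 3 = 1 := by
  have h1 := tv_conj u w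
  have h2 := tv_conj w u
  rw [BB_comm, h, one_smul, add_comm, tv_inv] at h2
  rw [h, one_smul, ← h2, tv_inv] at h1
  calc _ = (tv u * tv w * tv u) * (tv w * tv u * tv w) := by
        simp only [pow_succ, pow_zero, one_mul, mul_assoc]
    _ = tv w * (tv u * (tv w * tv w) * tv u) * tv w := by rw [h1]; simp only [mul_assoc]
    _ = 1 := by rw [tv_sq, mul_one, tv_sq, mul_one, tv_sq]

theorem nd {w : VV} (hw : w ≠ 0) : ∃ u, BB u w = 1 := by
  obtain ⟨i, hi⟩ := not_forall.1 fun h => hw (BB_nd w h)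
  exact ⟨_, (z01 _).resolve_left hi⟩

theorem tv_ne {w : VV} (hw : w ≠ 0) : tv w ≠ 1 := fun e => by
  obtain ⟨u, hu⟩ := nd hw
  have := tv_mv w u
  rw [e, BB_comm, hu, one_smul] at this
  exact hw (by simpa using this.symm)

/-- basis vectors -/
def ee (i : Fin 3) : VV := Pi.single (.inl i) 1

/-- basis vectors -/
def ff (i : Fin 3) : VV := Pi.single (.inr i) 1

/-- elements of order 3 -/
def dd (i : Fin 3) : SS := tv (ee i) * tv (ff i)

theorem trans : ∀ w : VV, w ≠ 0 → ∃ v, BB (ee 0 + v) (ee 0) = 1 ∧ BB (v + w) v = 1 := by decide +kernel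

theorem exists_conj {w : VV} (hw : w ≠ 0) : ∃ g : SS, g * tv (ee 0) * g⁻¹ = tv w := by
  obtain ⟨v, h1, h2⟩ := trans w hw
  refine ⟨tv (v + w) * tv (ee 0 + v), ?_⟩
  rw [conj, mul_mv, tv_mv, tv_mv, h1, one_smul, ← add_assoc (ee 0), vv2, zero_add, h2, one_smul,
    ← add_assoc, vv2, zero_add]

theorem bs : (∀ i, BB (ee i) (ff i) = 1) ∧ ∀ i j, i ≠ j → BB (ee i) (ee j) = 0 ∧ BB (ee i) (ff j) = 0 ∧
    BB (ff i) (ee j) = 0 ∧ BB (ff i) (ff j) = 0 := by decide +kernel

theorem dd_cube (i : Fin 3) : dd i ^ 3 = 1 := tv_cube (bs.1 i)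

theorem ce {i j : Fin 3} (h : i ≠ j) : Commute (tv (ee i)) (dd j) :=
  (tv_comm (bs.2 i j h).1).mul_right (tv_comm (bs.2 i j h).2.1)

theorem cf {i j : Fin 3} (h : i ≠ j) : Commute (tv (ff i)) (dd j) :=
  (tv_comm (bs.2 i j h).2.2.1).mul_right (tv_comm (bs.2 i j h).2.2.2)

theorem cd {i j : Fin 3} (h : i ≠ j) : Commute (dd i) (dd j) := (ce h).mul_left (cf h)

theorem inv_dd (i : Fin 3) : tv (ee i) * dd i = dd i ^ 2 * tv (ee i) := by
  have : dd i ^ 2 = (dd i)⁻¹ := eq_inv_of_mul_eq_one_left (by rw [← pow_succ, dd_cube])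
  rw [this, dd, _root_.mul_inv_rev, tv_inv, tv_inv, ← mul_assoc, mul_assoc (tv (ff i)), tv_sq, mul_one,
    one_mul]

theorem dd_ne (i : Fin 3) : dd i ≠ 1 := fun e => by
  have h := tv_conj (ee i) (ff i)
  have h1 : tv (ee i) = tv (ff i) := by rw [← tv_inv (ff i)]; exact eq_inv_of_mul_eq_one_left e
  have := congrArg (fun g : SS => g.1 *ᵥ ff i) h1
  simp only [tv_mv, BB_self, bs.1, one_smul, zero_smul, add_zero, add_eq_left] at this
  revert this; revert i; decide

/-- index swaps -/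
def sw (σ : Equiv.Perm (Fin 3)) : SS :=
  ⟨Matrix.of fun i j => if i = Sum.map σ σ j then 1 else 0, by
    rw [SymplecticGroup.mem_iff]; revert σ; decide +kernel⟩

theorem sw_mv : ∀ (σ : Equiv.Perm (Fin 3)) i, (sw σ).1 *ᵥ ee i = ee (σ i) ∧ (sw σ).1 *ᵥ ff i = ff (σ i) := by
  decide +kernel

theorem sw_dd (σ : Equiv.Perm (Fin 3)) (i : Fin 3) : sw σ * dd i * (sw σ)⁻¹ = dd (σ i) := by
  rw [dd, dd, ← (sw_mv σ i).1, ← (sw_mv σ i).2, ← conj, ← conj]; group

section
variable {A Γ : Type*} [CommGroup A] [Group Γ] (θ : Γ →* MulAut A)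

theorem cF (g h : Γ) : Nat.card (Fx (θ (g * h * g⁻¹))) = Nat.card (Fx (θ h)) := by
  refine Nat.card_congr ((θ g).symm.toEquiv.subtypeEquiv fun a => ?_)
  rw [mem_Fx, mem_Fx, map_mul, map_mul, map_inv]
  exact ⟨fun e => (θ g).injective (by simpa using e), fun e => by simpa using congrArg (θ g) e⟩

variable [Finite A] (hc : Nat.card A = 64) {θ} (hθ : Function.Injective θ)
include hc hθ

theorem cF_cases {g : Γ} (hg : g ≠ 1) : Nat.card (Fx (θ g)) ∈ [1, 2, 4, 8, 16, 32] := by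
  have h1 := (Fx (θ g)).card_subgroup_dvd_card
  have h2 : Nat.card (Fx (θ g)) ≠ 64 := fun e => hg (hθ (by
    have := (Subgroup.card_eq_iff_eq_top _).1 (e.trans hc.symm)
    rw [map_one]
    exact MulEquiv.ext fun a => mem_Fx.1 (this.ge trivial)))
  rw [hc] at h1
  have h3 := Nat.le_of_dvd (by norm_num) h1
  generalize Nat.card (Fx (θ g)) = n at *
  interval_cases n <;> simp_all

theorem c16' {d x : Fin 3 → Γ} (d3 : ∀ i, d i ^ 3 = 1) (d1 : d 0 ≠ 1)
    (cd : ∀ {i j}, i ≠ j → Commute (d i) (d j)) (ce : ∀ {i j}, i ≠ j → Commute (x i) (d j))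
    (iv : ∀ i, x i * d i = d i ^ 2 * x i)
    (sw : ∀ σ : Equiv.Perm (Fin 3), ∃ g, ∀ i, g * d i * g⁻¹ = d (σ i)) (i : Fin 3) :
    Nat.card (Fx (θ (d i))) = 16 := by
  set F : Γ → ℕ := fun g => Nat.card (Fx (θ g)) with hF
  have cj : ∀ g {a b : Γ}, g * a = b * g → F b = F a := fun g a b e => by
    rw [← mul_inv_eq_iff_eq_mul.2 e]; exact cF θ g a
  have c01 := cd (show (0 : Fin 3) ≠ 1 by decide)
  have c02 := cd (show (0 : Fin 3) ≠ 2 by decide)
  have c12 := cd (show (1 : Fin 3) ≠ 2 by decide)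
  have r0 : ∀ j l : ℕ, F (d 0 ^ 2 * (d 1 ^ j * d 2 ^ l)) = F (d 0 ^ 1 * (d 1 ^ j * d 2 ^ l)) := fun j l =>
    cj (x 0) (by
      rw [pow_one, ← mul_assoc, iv, mul_assoc, mul_assoc (d 0 ^ 2),
        (((ce (by decide)).pow_right j).mul_right ((ce (by decide)).pow_right l)).eq])
  have r1 : ∀ j l : ℕ, F (d 0 ^ j * (d 1 ^ 2 * d 2 ^ l)) = F (d 0 ^ j * (d 1 ^ 1 * d 2 ^ l)) := fun j l =>
    cj (x 1) (by
      rw [pow_one, ← mul_assoc, ((ce (by decide)).pow_right j).eq, mul_assoc, ← mul_assoc (x _), iv,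
        mul_assoc, ((ce (by decide)).pow_right l).eq]
      simp only [mul_assoc])
  have r2 : ∀ j l : ℕ, F (d 0 ^ j * (d 1 ^ l * d 2 ^ 2)) = F (d 0 ^ j * (d 1 ^ l * d 2 ^ 1)) := fun j l =>
    cj (x 2) (by
      rw [pow_one, ← mul_assoc, ((ce (by decide)).pow_right j).eq, mul_assoc, ← mul_assoc (x _),
        ((ce (by decide)).pow_right l).eq, mul_assoc, iv]
      simp only [mul_assoc])
  have s1 : ∀ i, F (d i) = F (d 0) := fun i => by
    obtain ⟨g, hg⟩ := sw (Equiv.swap 0 i)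
    have := cF θ g (d 0)
    rwa [hg, Equiv.swap_apply_left] at this
  have s2 : ∀ σ : Equiv.Perm (Fin 3), F (d (σ 0) * d (σ 1)) = F (d 0 * d 1) := fun σ => by
    obtain ⟨g, hg⟩ := sw σ
    have := cF θ g (d 0 * d 1)
    rwa [← conj_mul, hg, hg] at this
  have s3 : F (d 0 * d 2) = F (d 0 * d 1) := s2 (Equiv.swap 1 2)
  have s4 : F (d 1 * d 2) = F (d 0 * d 1) := by rw [c12.eq]; exact s2 (Equiv.swap 0 2)
  have F1 : F 1 = 64 := by
    rw [← hc, hF]
    exact (Subgroup.card_eq_iff_eq_top _).2 (eq_top_iff.2 fun a _ => mem_Fx.2 (by simp))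
  let _ : MulAction Γ A := MulAction.compHom A θ
  have eF : ∀ g : Γ, Nat.card (MulAction.fixedBy A g) = F g := fun g => rfl
  have b1 := CL.W6.burn (α := A) (d3 0) (d3 1) (d3 2) c01 c02 c12
  have b2 := CL.W6.burn (α := A) (d3 0) (d3 1) (one_pow 3) c01 (Commute.one_right _) (Commute.one_right _)
  simp only [eF] at b1 b2
  have b2' : 27 ∣ ∑ i : Fin 3, ∑ j : Fin 3, ∑ l : Fin 3, F (d 0 ^ i.val * (d 1 ^ j.val * d 2 ^ 0)) := by
    simpa only [one_pow, pow_zero] using b2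
  simp only [Fin.sum_univ_three, Fin.val_zero, Fin.val_one, Fin.val_two, r0, r1, r2] at b1 b2'
  simp only [pow_zero, pow_one, one_mul, mul_one, s1, s3, s4, F1] at b1 b2'
  have n0 : ∀ y, Commute (x 0) y → d 0 * y ≠ 1 := fun y hy e => by
    have h2 := iv 0
    rw [(Commute.inv_right_iff.1 (show Commute _ _ from by
      rw [inv_eq_of_mul_eq_one_right e]; exact hy)).eq, mul_left_inj, pow_two] at h2
    exact d1 (by simpa using h2.symm)
  have k1 := cF_cases hc hθ d1
  have k2 := cF_cases hc hθ (n0 _ (ce (show (0 : Fin 3) ≠ 1 by decide)))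
  have k3 := cF_cases hc hθ (n0 _ ((ce (show (0 : Fin 3) ≠ 1 by decide)).mul_right
    (ce (show (0 : Fin 3) ≠ 2 by decide))))
  change F _ ∈ _ at k1 k2 k3
  change F _ = 16
  rw [s1]
  refine (by decide : ∀ a ∈ [1, 2, 4, 8, 16, 32], ∀ b ∈ [1, 2, 4, 8, 16, 32], ∀ c ∈ [1, 2, 4, 8, 16, 32],
    27 ∣ 64 + 6 * a + 12 * b + 8 * c → 27 ∣ 192 + 12 * a + 12 * b → a = 16) _ k1 _ k2 _ k3 ?_ ?_
  · convert b1 using 1; ring
  · convert b2' using 1; ring

end

variable {A : Type*} [CommGroup A] [Finite A] (hA : ∀ a : A, a * a = 1) (hc : Nat.card A = 64)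
  {θ : SS →* MulAut A} (hθ : Function.Injective θ)

include hc hθ

theorem c16 (i : Fin 3) : Nat.card (Fx (θ (dd i))) = 16 :=
  c16' hc hθ (x := fun i => tv (ee i)) dd_cube (dd_ne 0) cd ce inv_dd (fun σ => ⟨sw σ, sw_dd σ⟩) i

include hA

theorem ex0 : ∃ c, ∀ a, θ (tv (ee 0)) a = a ∨ θ (tv (ee 0)) a = a * c := by
  have ap : ∀ (g h : SS) a, θ g (θ h a) = θ (g * h) a := fun g h a => by rw [map_mul]; rfl
  have D : ∀ i, Dt (θ (dd i)) := fun i => ⟨hA, hc, fun a => by
    rw [ap, ap, ← pow_three', dd_cube, map_one]; rfl, c16 hc hθ i⟩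
  have fx : ∀ {u i}, Commute (tv u) (dd i) → (pr (θ (dd i))).range ≤ Fx (θ (tv u)) := fun h =>
    (D _).fix (fun a => by rw [ap, tv_sq, map_one]; rfl) fun a => by rw [ap, ap, h.eq]
  have fd : ∀ {i j}, i ≠ j → (pr (θ (dd j))).range ≤ Fx (θ (dd i)) := fun h a ha => by
    rw [mem_Fx, dd, ← ap, mem_Fx.1 (fx (cf h) ha), mem_Fx.1 (fx (ce h) ha)]
  refine (D 0).tv (D 1) (D 2) (fun a => by rw [ap, tv_sq, map_one]; rfl) (fun a => ?_) (fd (by decide))
    (fd (by decide)) (fd (by decide)) (fx (ce (by decide))) (fx (ce (by decide)))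
  have e : tv (ee 0) * dd 0 * dd 0 = dd 0 * tv (ee 0) := by
    rw [inv_dd, mul_assoc, inv_dd, ← mul_assoc, ← pow_add, pow_succ', dd_cube, mul_one]
  rw [pr_apply, pr_apply, map_mul, ap, ap, ap, ap, ap, mul_comm, e, inv_dd, pow_two, mul_assoc]

omit [Finite A] hc hθ hA in
/-- `a ^ x` -/
def pw (a : A) (x : ZMod 2) : A := if x = 0 then 1 else a

omit [Finite A] hc hθ in
theorem pw_add (a : A) (x y : ZMod 2) : pw a (x + y) = pw a x * pw a y := by
  rcases z01 x with rfl | rfl <;> rcases z01 y with rfl | rfl <;> simp [pw, hA, CharTwo.add_self_eq_zero]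

omit [Finite A] hc hθ in
theorem pw_sum {ι : Type*} (s : Finset ι) (a : A) (f : ι → ZMod 2) :
    ∏ i ∈ s, pw a (f i) = pw a (∑ i ∈ s, f i) := by
  classical
  induction s using Finset.induction_on with
  | empty => simp [pw]
  | insert i s hi ih => rw [Finset.prod_insert hi, Finset.sum_insert hi, ih, pw_add hA]

theorem main : ∃ α : A ≃* Multiplicative VV,
    ∀ g a, Multiplicative.toAdd (α (θ g a)) = g.1 *ᵥ Multiplicative.toAdd (α a) := by
  have ap : ∀ (g h : SS) a, θ g (θ h a) = θ (g * h) a := fun g h a => by rw [map_mul]; rfl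
  let P : SS → A → Prop := fun t c => ∀ a, θ t a = a ∨ θ t a = a * c
  have mv : ∀ {t : SS}, t ≠ 1 → ∃ a, θ t a ≠ a := fun {t} ht => not_forall.1 fun h =>
    ht (hθ (by rw [map_one]; exact MulEquiv.ext h))
  have Pu : ∀ {t c c'}, t ≠ 1 → P t c → P t c' → c = c' := fun ht h h' => by
    obtain ⟨a, ha⟩ := mv ht
    exact mul_left_cancel (((h a).resolve_left ha).symm.trans ((h' a).resolve_left ha))
  have Pc : ∀ g {t c}, P t c → P (g * t * g⁻¹) (θ g c) := fun g t c h a => by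
    rw [← ap, ← ap]
    rcases h (θ g⁻¹ a) with e | e <;> rw [e] <;> simp
  have ex : ∀ w : VV, ∃ c, w ≠ 0 → P (tv w) c := fun w => by
    by_cases hw : w = 0
    · exact ⟨1, fun h => absurd hw h⟩
    obtain ⟨c, h⟩ := ex0 hA hc hθ
    obtain ⟨g, e⟩ := exists_conj hw
    exact ⟨θ g c, fun _ => e ▸ Pc g h⟩
  choose c hP using ex
  have c1 : ∀ {w}, w ≠ 0 → c w ≠ 1 := fun {w} hw e => by
    obtain ⟨a, ha⟩ := mv (tv_ne hw)
    exact ha (by simpa [e] using hP w hw a)
  have c0 : ∀ {u w}, w ≠ 0 → BB u w = 0 → θ (tv u) (c w) = c w := fun {u w} hw h => by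
    have := Pc (tv u) (hP w hw)
    rw [tv_conj, h, zero_smul, add_zero] at this
    exact Pu (tv_ne hw) this (hP w hw)
  have act : ∀ {u w}, u ≠ 0 → w ≠ 0 → θ (tv u) (c w) = c w * pw (c u) (BB u w) := fun {u w} hu hw => by
    rcases z01 (BB u w) with h | h
    · rw [c0 hw h, h, pw, if_pos rfl, mul_one]
    rw [h, pw, if_neg one_ne_zero]
    refine (hP u hu _).resolve_left fun e => ?_
    have h1 := Pc (tv u) (hP w hw)
    have f1 := c0 hw (BB_self w)
    have f2 : θ (tv u * tv w * (tv u)⁻¹) (c w) = c w := by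
      rw [← ap, ← ap, tv_inv, e, f1, e]
    rw [e] at h1
    rw [tv_conj, h, one_smul] at h1 f2
    have cm : tv w * tv (w + u) = tv (w + u) * tv w := hθ (MulEquiv.ext fun a => by
      rw [← ap, ← ap]
      rcases hP w hw a with e1 | e1 <;> rcases h1 a with e2 | e2 <;>
        simp only [e1, e2, map_mul, f1, f2])
    have := congrArg (fun g : SS => g.1 *ᵥ w) cm
    simp only [mul_mv, tv_mv, BB_self, zero_smul, add_zero, BB_comm (w + u), BB_add, zero_add,
      BB_comm w u, h, one_smul, add_eq_left] at this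
    exact hw this
  have sne : ∀ i : Fin 3 ⊕ Fin 3, (Pi.single i 1 : VV) ≠ 0 := by decide
  let L : Multiplicative VV →* A := MonoidHom.mk' (fun v => ∏ i, pw (c (Pi.single i 1)) (v.toAdd i))
    fun v w => by simp only [toAdd_mul, Pi.add_apply, pw_add hA, Finset.prod_mul_distrib]
  have aL : ∀ {u}, u ≠ 0 → ∀ v, θ (tv u) (L v) = L v * pw (c u) (BB u v.toAdd) := fun {u} hu v => by
    change θ (tv u) (∏ i, pw (c (Pi.single i 1)) (v.toAdd i)) = (∏ i, pw (c (Pi.single i 1)) (v.toAdd i)) * _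
    rw [BB_sum, ← pw_sum hA, ← Finset.prod_mul_distrib, map_prod]
    refine Finset.prod_congr rfl fun i _ => ?_
    rcases z01 (v.toAdd i) with e | e <;> rw [e]
    · simp [pw]
    · simp only [pw, if_neg one_ne_zero, mul_one]
      exact act hu (sne i)
  have pi : ∀ {u x y}, u ≠ 0 → pw (c u) x = pw (c u) y → x = y := fun {u x y} hu e => by
    have := c1 hu
    rcases z01 x with rfl | rfl <;> rcases z01 y with rfl | rfl
    exacts [rfl, absurd e.symm this, absurd e this, rfl]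
  have Li : Function.Injective L := (injective_iff_map_eq_one L).2 fun v hv =>
    BB_nd v.toAdd fun i => pi (sne i) (by
      have := aL (sne i) v
      rw [hv, map_one, one_mul] at this
      rw [← this, pw, if_pos rfl])
  have Lb := Li.bijective_of_nat_card_le (by rw [hc]; simp)
  have cL : ∀ {u}, u ≠ 0 → c u = L (Multiplicative.ofAdd u) := fun {u} hu => by
    obtain ⟨v, e⟩ := Lb.2 (c u)
    have : v.toAdd + u = 0 := BB_nd _ fun i => by
      have h1 := aL (sne i) v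
      rw [e, act (sne i) hu, mul_right_inj] at h1
      rw [BB_add, pi (sne i) h1, CharTwo.add_self_eq_zero]
    rw [← e, ← add_zero u, ← this, add_left_comm, vv2, add_zero]; rfl
  let N : Subgroup SS :=
    { carrier := {g | ∀ v, θ g (L (.ofAdd v)) = L (.ofAdd (g.1 *ᵥ v))}
      one_mem' := fun v => by simp
      mul_mem' := fun {g h} hg hh v => by rw [← ap, hh, hg, mul_mv]
      inv_mem' := fun {g} hg v => (θ g).injective (by
        rw [ap, hg, ← mul_mv, mul_inv_cancel]; simp) }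
  have hN : N = ⊤ := top fun i v => by
    have hu : vv i ≠ 0 := by revert i; decide
    rw [tt, aL hu, tv_mv, ofAdd_add, map_mul, toAdd_ofAdd, cL hu]
    rcases z01 (BB (vv i) v) with e | e <;> simp [e, pw]
  refine ⟨(MulEquiv.ofBijective L Lb).symm, fun g a => ?_⟩
  obtain ⟨v, rfl⟩ := Lb.2 a
  have h1 : θ g (L v) = L (.ofAdd (g.1 *ᵥ v.toAdd)) := (hN.ge trivial : g ∈ N) v.toAdd
  rw [h1]
  exact (congrArg Multiplicative.toAdd ((MulEquiv.ofBijective L Lb).symm_apply_apply _)).trans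
    (congrArg (fun x => g.1 *ᵥ Multiplicative.toAdd x) ((MulEquiv.ofBijective L Lb).symm_apply_apply v).symm)

end Nt

/-- A faithful action of `Sp₆(2)` on `2⁶` is the natural one. -/
theorem nat {A : Type*} [Group A] [Finite A] (hA : ∀ a : A, a * a = 1) (hc : Nat.card A = 64)
    (θ : symplecticGroup (Fin 3) (ZMod 2) →* MulAut A) (hθ : Function.Injective θ) :
    ∃ α : A ≃* Multiplicative (Fin 3 ⊕ Fin 3 → ZMod 2),
      ∀ g a, Multiplicative.toAdd (α (θ g a)) = g.1 *ᵥ Multiplicative.toAdd (α a) := by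
  let _ : CommGroup A := { ‹Group A› with
    mul_comm := fun a b => by
      have h1 : a * (a * b * (a * b)) * b = (a * a) * (b * a) * (b * b) := by group
      rw [hA, hA, hA] at h1
      simpa using h1 }
  exact Nt.main hA hc hθ

end CL.A6F
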